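import Mathlib
import Cfsg.Agent.Lib.Helper48.X27.Defs

/-!
# Project X27 (S5998): package [X27-ADJ]
-/

set_option autoImplicit false

open scoped MatrixGroups

namespace Cfsg.Agent.Lib.Helper61.X27

open Cfsg.Agent.Lib.Helper48.X27

universe u

theorem pkgAdj : PkgAdj.{u} := by
  intro F _ x u h M hM hcomm
  have hdu : (u : Matrix (Fin 3) (Fin 3) F).det ≠ 0 :=
    ((Matrix.isUnit_iff_isUnit_det _).mp u.isUnit).ne_zero
  have hdh : (h : Matrix (Fin 3) (Fin 3) F).det ≠ 0 :=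
    ((Matrix.isUnit_iff_isUnit_det _).mp h.isUnit).ne_zero
  obtain ⟨δ, hδ⟩ : ∃ δ : F, δ = (h : Matrix (Fin 3) (Fin 3) F).det /
      (u : Matrix (Fin 3) (Fin 3) F).det := ⟨_, rfl⟩
  have hδ0 : δ ≠ 0 := by rw [hδ]; exact div_ne_zero hdh hdu
  have hcdet : (!![δ, 0, 0; 0, 1, 0; 0, 0, 1] : Matrix (Fin 3) (Fin 3) F).det = δ := by
    rw [Matrix.det_fin_three]; simp
  obtain ⟨c, hcval⟩ : ∃ c : GL (Fin 3) F,
      (c : Matrix (Fin 3) (Fin 3) F) = !![δ, 0, 0; 0, 1, 0; 0, 0, 1] :=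
    ⟨Matrix.GeneralLinearGroup.mkOfDetNeZero !![δ, 0, 0; 0, 1, 0; 0, 0, 1]
      (by rw [hcdet]; exact hδ0), rfl⟩
  refine ⟨u * c * h⁻¹, ?_, ?_⟩
  · rw [Cfsg.Geo.specialLinear, MonoidHom.mem_ker]
    apply Units.ext
    rw [Matrix.GeneralLinearGroup.val_det_apply, Units.val_one, Units.val_mul, Units.val_mul,
      Matrix.det_mul, Matrix.det_mul, hcval, hcdet]
    have hinv : ((h⁻¹ : GL (Fin 3) F) : Matrix (Fin 3) (Fin 3) F).det
        = ((h : Matrix (Fin 3) (Fin 3) F).det)⁻¹ := by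
      have h1 : (h : Matrix (Fin 3) (Fin 3) F) *
          ((h⁻¹ : GL (Fin 3) F) : Matrix (Fin 3) (Fin 3) F) = 1 := by
        rw [← Units.val_mul, mul_inv_cancel, Units.val_one]
      have h2 := congrArg Matrix.det h1
      rw [Matrix.det_mul, Matrix.det_one] at h2
      exact eq_inv_of_mul_eq_one_right h2
    rw [hinv, hδ]
    field_simp
  · have e : h⁻¹ * ((u * c * h⁻¹)⁻¹ * x * (u * c * h⁻¹)) * h = c⁻¹ * (u⁻¹ * x * u) * c := by
      group
    rw [e, Units.val_mul, Units.val_mul, hM, hcval, Matrix.mul_assoc, ← hcomm δ hδ0,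
      ← Matrix.mul_assoc, ← hcval, ← Units.val_mul, inv_mul_cancel, Units.val_one, Matrix.one_mul]

end Cfsg.Agent.Lib.Helper61.X27
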