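import Mathlib
import Cfsg.Agent.Lib.Helper48.X27.Defs

/-!
# Project X27 (S5998): package [X27-ARITH9]
-/

set_option autoImplicit false

namespace Cfsg.Agent.Lib.Helper61.X27

open Cfsg.Agent.Lib.Helper48.X27

set_option maxRecDepth 100000 in
theorem arith9_zmod : ∀ x : ZMod 81, (x.val % 9 = 4 ∨ x.val % 9 = 7) →
    x ^ 3 * (x ^ 2 - 1) * (x ^ 3 - 1) ≠ 0 := by decide

theorem pkgArith9 : PkgArith9 := by
  intro q hq hdvd
  have hq1 : 1 ≤ q := by omega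
  have h2 : 1 ≤ q ^ 2 := Nat.one_le_pow _ _ hq1
  have h3 : 1 ≤ q ^ 3 := Nat.one_le_pow _ _ hq1
  have hz := (ZMod.natCast_eq_zero_iff _ 81).mpr hdvd
  push_cast [Nat.cast_sub h2, Nat.cast_sub h3] at hz
  refine arith9_zmod (q : ZMod 81) ?_ hz
  rw [ZMod.val_natCast, Nat.mod_mod_of_dvd _ (by norm_num : 9 ∣ 81)]
  exact hq

end Cfsg.Agent.Lib.Helper61.X27
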