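import Mathlib
import Cfsg.Agent.Lib.Helper48.X27.Defs

/-!
# Project X27 (S5998): packages [X27-BIG] and [X27-IDX3]
-/

set_option autoImplicit false

open scoped MatrixGroups

namespace Cfsg.Agent.Lib.Helper61.X27

open Cfsg.Agent.Lib.Helper48.X27

universe u

theorem pkgBig : PkgBig.{u} := by
  intro F _ _ r hr hr5 hdvd
  have hrF : Fact r.Prime := ⟨hr⟩
  obtain ⟨x0, hx0⟩ := exists_prime_orderOf_dvd_card' r hdvd
  have hxr : ((x0 : GL (Fin 3) F) ^ r) = 1 := by
    have h1 := pow_orderOf_eq_one x0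
    rw [hx0] at h1
    have h2 := congrArg Subtype.val h1
    exact h2
  refine ⟨(x0 : GL (Fin 3) F), x0.2, hxr, ?_⟩
  intro z hz
  have hdet : ((x0 : GL (Fin 3) F) : Matrix (Fin 3) (Fin 3) F).det = 1 := by
    have h1 : Matrix.GeneralLinearGroup.det (x0 : GL (Fin 3) F) = 1 :=
      MonoidHom.mem_ker.mp x0.2
    have h2 := congrArg Units.val h1
    rw [Matrix.GeneralLinearGroup.val_det_apply, Units.val_one] at h2
    exact h2
  have hz3 : z ^ 3 = 1 := by
    rw [hz, Matrix.det_smul, Matrix.det_one, mul_one, Fintype.card_fin] at hdet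
    exact hdet
  have hzr : z ^ r = 1 := by
    have h1 := congrArg Units.val hxr
    rw [Units.val_pow_eq_pow_val, Units.val_one, hz, smul_pow, one_pow] at h1
    have h2 := congrFun (congrFun h1 0) 0
    simpa using h2
  have hz1 : z = 1 := by
    have e1 := orderOf_dvd_of_pow_eq_one hz3
    have e2 := orderOf_dvd_of_pow_eq_one hzr
    have hcop : Nat.gcd 3 r = 1 := by
      have h3r : Nat.Coprime 3 r := by
        rw [Nat.coprime_primes Nat.prime_three hr]; omega
      exact h3r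
    have e3 : orderOf z ∣ Nat.gcd 3 r := Nat.dvd_gcd e1 e2
    rw [hcop, Nat.dvd_one] at e3
    exact orderOf_eq_one_iff.mp e3
  have hx1 : x0 = 1 := by
    apply Subtype.ext
    apply Units.ext
    rw [hz, hz1, one_smul]
    rfl
  rw [hx1, orderOf_one] at hx0
  exact hr.one_lt.ne hx0

theorem pkgIdx3_of (hR : PkgRSL.{u}) (hS : PkgSLCard.{u}) (hA : PkgArith9) : PkgIdx3.{u} := by
  intro F _ _ R h ω hstd hcard hq hdvd
  have hRSL : R ≤ Cfsg.Geo.specialLinear (Fin 3) F := hR R h ω hstd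
  have hRN : R ≤ Cfsg.Geo.subgroupNormalizer R := Subgroup.le_normalizer
  have h27 : 27 ∣ Nat.card ((Cfsg.Geo.subgroupNormalizer R).subgroupOf
      (Cfsg.Geo.specialLinear (Fin 3) F)) := by
    have h1 : R.subgroupOf (Cfsg.Geo.specialLinear (Fin 3) F) ≤
        (Cfsg.Geo.subgroupNormalizer R).subgroupOf (Cfsg.Geo.specialLinear (Fin 3) F) := by
      intro x hx
      exact hRN hx
    have h2 : Nat.card (R.subgroupOf (Cfsg.Geo.specialLinear (Fin 3) F)) = 27 := by
      rw [Nat.card_congr (Subgroup.subgroupOfEquivOfLe hRSL).toEquiv, hcard]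
    rw [← h2]
    exact Subgroup.card_dvd_of_le h1
  have h81 : 81 ∣ Nat.card ↥(Cfsg.Geo.specialLinear (Fin 3) F) := by
    rw [← Subgroup.card_mul_index ((Cfsg.Geo.subgroupNormalizer R).subgroupOf
      (Cfsg.Geo.specialLinear (Fin 3) F))]
    have e : (81 : ℕ) = 27 * 3 := by norm_num
    rw [e]
    exact Nat.mul_dvd_mul h27 hdvd
  rw [hS] at h81
  by_contra hne
  have h47 : Fintype.card F % 9 = 4 ∨ Fintype.card F % 9 = 7 := by omega
  exact hA _ h47 h81

end Cfsg.Agent.Lib.Helper61.X27
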