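import Mathlib
import Cfsg.Agent.Lib.Helper48.X27.Defs

/-!
# Project X27 (S5998): packages [X27-ROOT3] and [X27-ROOT9]
-/

set_option autoImplicit false

namespace Cfsg.Agent.Lib.Helper61.X27

open Cfsg.Agent.Lib.Helper48.X27

universe u

theorem pkgRoot3 : PkgRoot3.{u} := by
  intro F _ _ hF
  have h3 : 3 ∣ Nat.card Fˣ := by
    rw [Nat.card_units, Nat.card_eq_fintype_card]
    omega
  have : Fact (Nat.Prime 3) := ⟨Nat.prime_three⟩
  obtain ⟨w, hw⟩ := exists_prime_orderOf_dvd_card' 3 h3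
  refine ⟨(w : F), ?_, ?_⟩
  · intro h
    have h1 : w = 1 := Units.ext h
    rw [h1, orderOf_one] at hw
    omega
  · have h1 := pow_orderOf_eq_one w
    rw [hw] at h1
    have h2 := congrArg Units.val h1
    rw [Units.val_pow_eq_pow_val, Units.val_one] at h2
    exact h2

theorem pkgRoot9 : PkgRoot9.{u} := by
  intro F _ _ hF ω hω
  have hω0 : ω ≠ 0 := by
    rintro rfl
    simp at hω
  obtain ⟨g, hg⟩ := IsCyclic.exists_generator (α := Fˣ)
  have hord : orderOf g = Fintype.card F - 1 := by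
    rw [orderOf_eq_card_of_forall_mem_zpowers hg, Nat.card_units, Nat.card_eq_fintype_card]
  obtain ⟨t, ht⟩ := Subgroup.mem_zpowers_iff.mp (hg (Units.mk0 ω hω0))
  have hu3 : (Units.mk0 ω hω0) ^ (3 : ℕ) = 1 := by
    apply Units.ext
    rw [Units.val_pow_eq_pow_val, Units.val_mk0, Units.val_one]
    exact hω
  have h1 : (g ^ t) ^ (3 : ℕ) = 1 := by rw [ht]; exact hu3
  rw [← zpow_natCast, ← zpow_mul] at h1
  have h2 : (orderOf g : ℤ) ∣ t * ((3 : ℕ) : ℤ) := orderOf_dvd_iff_zpow_eq_one.mpr h1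
  have h9 : (9 : ℤ) ∣ (orderOf g : ℤ) := by
    rw [hord]
    have h9' : 9 ∣ Fintype.card F - 1 := by omega
    exact_mod_cast h9'
  have h3 : (3 : ℤ) ∣ t := by
    have h4 := h9.trans h2
    push_cast at h4
    omega
  obtain ⟨t', rfl⟩ := h3
  refine ⟨((g ^ t' : Fˣ) : F), ?_⟩
  have h5 : (g ^ t') ^ (3 : ℕ) = Units.mk0 ω hω0 := by
    rw [← ht, ← zpow_natCast, ← zpow_mul]
    congr 1
    push_cast
    ring
  have h6 := congrArg Units.val h5
  rw [Units.val_pow_eq_pow_val, Units.val_mk0] at h6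
  exact h6

end Cfsg.Agent.Lib.Helper61.X27
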